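import Mathlib

/-!
# S4908: a Frobenius group `P : Q` acting on a finite abelian group

`frob`: `y` of prime order `p`, `z y z⁻¹ = y ^ k` with `k ^ i ≢ 1 (mod p)` for `0 < i < q`, `z ^ q = 1`. Then in every action on a
nontrivial finite abelian group `y` or `z` fixes a nontrivial element (no assumption on the characteristic).
-/

set_option autoImplicit false

namespace Cfsg.Agent.H559.S8

universe u v

variable {G : Type u} [Group G] {L : Type v} [CommGroup L] (ρ : G →* MulAut L)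

theorem zy {y z : G} {k : ℕ} (h : z * y * z⁻¹ = y ^ k) (i j : ℕ) : z ^ i * y ^ j * (z ^ i)⁻¹ = y ^ (j * k ^ i) := by
  induction i with
  | zero => simp
  | succ i ih =>
    have h1 : ∀ m : ℕ, z * y ^ m * z⁻¹ = y ^ (m * k) := by
      intro m
      rw [← conj_pow, h, ← pow_mul, mul_comm]
    calc z ^ (i + 1) * y ^ j * (z ^ (i + 1))⁻¹ = z * (z ^ i * y ^ j * (z ^ i)⁻¹) * z⁻¹ := by
          rw [pow_succ']; group
      _ = _ := by rw [ih, h1]; congr 1; ring

/-- the norm of `⟨z⟩` -/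
theorem norm_fix {z : G} {q : ℕ} (hz : z ^ q = 1) (w : L) :
    ρ z (∏ i ∈ Finset.range q, ρ (z ^ i) w) = ∏ i ∈ Finset.range q, ρ (z ^ i) w := by
  rw [map_prod]
  rcases Nat.eq_zero_or_pos q with rfl | hq
  · simp
  have h1 : ∀ i, ρ z (ρ (z ^ i) w) = ρ (z ^ (i + 1)) w := fun i => by
    rw [← MulAut.mul_apply, ← map_mul, ← pow_succ']
  rw [Finset.prod_congr rfl fun i _ => h1 i]
  obtain ⟨n, rfl⟩ : ∃ n, q = n + 1 := ⟨q - 1, by omega⟩
  rw [Finset.prod_range_succ, Finset.prod_range_succ', hz, pow_zero]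

/-- **A Frobenius group acting on a finite abelian group.** -/
theorem frob [Finite L] {y z : G} {p q k : ℕ} (hp : p.Prime) (hy : y ^ p = 1) (hq : 0 < q) (hzq : z ^ q = 1)
    (hz : z * y * z⁻¹ = y ^ k) (hk : ∀ i, 0 < i → i < q → ¬ k ^ i ≡ 1 [MOD p]) (hL : Nontrivial L) :
    ∃ x : L, x ≠ 1 ∧ (ρ y x = x ∨ ρ z x = x) := by
  classical
  by_contra hno
  push Not at hno
  have hY : ∀ x : L, ρ y x = x → x = 1 := fun x hx => by
    by_contra h
    exact (hno x h).1 hx
  have hZ : ∀ x : L, ρ z x = x → x = 1 := fun x hx => by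
    by_contra h
    exact (hno x h).2 hx
  have : Fact p.Prime := ⟨hp⟩
  have : NeZero p := ⟨hp.ne_zero⟩
  have ypow : ∀ m n : ℕ, m ≡ n [MOD p] → y ^ m = y ^ n := by
    intro m n h
    exact pow_eq_pow_iff_modEq.2 (h.of_dvd (orderOf_dvd_of_pow_eq_one hy))
  -- the norm of `y`
  have hNy : ∀ w : L, ∏ a : ZMod p, ρ (y ^ a.val) w = 1 := by
    intro w
    refine hY _ ?_
    rw [map_prod]
    have h1 : ∀ a : ZMod p, ρ y (ρ (y ^ a.val) w) = ρ (y ^ (a + 1).val) w := fun a => by
      rw [← MulAut.mul_apply, ← map_mul, ← pow_succ']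
      congr 2
      apply ypow
      rw [← ZMod.natCast_eq_natCast_iff]
      push_cast
      rw [ZMod.natCast_zmod_val, ZMod.natCast_zmod_val]
    rw [Finset.prod_congr rfl fun a _ => h1 a]
    exact Equiv.prod_comp (Equiv.addRight (1 : ZMod p)) fun a : ZMod p => ρ (y ^ a.val) w
  -- every element has order `1` or `p`
  have hexp : ∀ v : L, v ^ p = 1 := by
    intro v
    have h1 : ∏ a : ZMod p, ρ (y ^ a.val) (∏ i ∈ Finset.range q, ρ (z ^ i) (ρ (y ^ a.val)⁻¹ v)) = 1 := by
      refine Finset.prod_eq_one fun a _ => ?_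
      rw [hZ _ (norm_fix ρ hzq _), map_one]
    have h2 : ∀ (a : ZMod p) (i : ℕ), ρ (y ^ a.val) (ρ (z ^ i) (ρ (y ^ a.val)⁻¹ v)) =
        ρ (y ^ (a * (1 - (k : ZMod p) ^ i)).val) (ρ (z ^ i) v) := by
      intro a i
      simp only [← MulAut.mul_apply, ← map_mul]
      congr 2
      have h3 := zy hz i a.val
      have h4 : z ^ i * (y ^ a.val)⁻¹ = (y ^ (a.val * k ^ i))⁻¹ * z ^ i := by
        rw [← h3]; group
      rw [h4, ← mul_assoc]
      congr 1
      rw [mul_inv_eq_iff_eq_mul, ← pow_add]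
      apply ypow
      rw [← ZMod.natCast_eq_natCast_iff]
      push_cast
      rw [ZMod.natCast_zmod_val, ZMod.natCast_zmod_val]
      ring
    simp only [map_prod] at h1
    rw [Finset.prod_comm] at h1
    obtain ⟨n, rfl⟩ : ∃ n, q = n + 1 := ⟨q - 1, by omega⟩
    rw [Finset.prod_range_succ', Finset.prod_eq_one, one_mul] at h1
    · have h5 : ∀ a : ZMod p, ρ (y ^ a.val) (ρ (z ^ 0) (ρ (y ^ a.val)⁻¹ v)) = v := by
        intro a
        rw [h2 a 0, pow_zero, pow_zero, sub_self, mul_zero, ZMod.val_zero, pow_zero]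
        simp
      rw [Finset.prod_congr rfl fun a _ => h5 a, Finset.prod_const, Finset.card_univ, ZMod.card] at h1
      exact h1
    · intro i hi
      rw [Finset.mem_range] at hi
      rw [Finset.prod_congr rfl fun a _ => h2 a (i + 1)]
      have hc : (1 : ZMod p) - (k : ZMod p) ^ (i + 1) ≠ 0 := by
        intro h0
        refine hk (i + 1) (by omega) (by omega) ?_
        rw [← ZMod.natCast_eq_natCast_iff]
        push_cast
        exact (sub_eq_zero.1 h0).symm
      rw [← hNy (ρ (z ^ (i + 1)) v)]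
      exact Equiv.prod_comp (Equiv.mulRight₀ _ hc) fun a : ZMod p => ρ (y ^ a.val) (ρ (z ^ (i + 1)) v)
  -- a `p`-group acting on a `p`-group
  let H : Subgroup G := Subgroup.zpowers y
  let act : MulAction H L := MulAction.compHom L (ρ.comp H.subtype)
  have hs : ∀ (g : H) (x : L), g • x = ρ (g : G) x := fun _ _ => rfl
  have hH : IsPGroup p H := by
    intro g
    obtain ⟨n, hn⟩ := Subgroup.mem_zpowers_iff.1 g.2
    refine ⟨1, Subtype.ext ?_⟩
    rw [pow_one]
    show (g : G) ^ p = 1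
    rw [← hn, ← zpow_natCast, ← zpow_mul, mul_comm, zpow_mul, zpow_natCast, hy, one_zpow]
  have hdvd : p ∣ Nat.card L := by
    obtain ⟨x, hx⟩ := exists_ne (1 : L)
    have h1 : orderOf x = p := orderOf_eq_prime (hexp x) hx
    rw [← h1]
    exact orderOf_dvd_natCard x
  obtain ⟨b, hb, hne⟩ := hH.exists_fixed_point_of_prime_dvd_card_of_fixed_point L hdvd
    (a := 1) (fun g => by rw [hs, map_one])
  exact hne (hY b (hb ⟨y, Subgroup.mem_zpowers y⟩)).symm

end Cfsg.Agent.H559.S8
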