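import Cfsg.Agent.H618.LD.RowFi22

/-!
# S4908, Fi22 (helper559): the degree `1360800` of `Fi22` and of `Aut Fi22`

The character of degree `1360800` with value `78 / 3510` of the central character at the transpositions is unique: with
two of them the principal 11-block has the exceptional degree `4499104`.
-/

set_option autoImplicit false
set_option linter.unusedSectionVars false

open Cfsg

namespace Cfsg.Agent.H559.S8.FiInv

open Cfsg.Agent.LThreeFi22 Cfsg.Agent.H618.LD.Tw Cfsg.Agent.H618.LD.Ev Cfsg.Agent.H618.LD.Blk Cfsg.Agent.H618.LD.Num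
  Cfsg.Agent.H618.LD.Prin Cfsg.Agent.H618.LD.Find Cfsg.Agent.H618.LD Cfsg.Agent.H618.LD.Mom
open Cfsg.Agent.KFacts.FiTT (TK)

universe u

variable {G : Type u} [Group G] [Finite G]

theorem mem_eps {e : G ≃* Spor.Fi22} [Fact (Nat.Prime 11)] {P : Sylow 11 G} {K : Subgroup G}
    {NE X : Finset (IrrCharacter G)} {ε : IrrCharacter G → ℤ} {d : ℤ} {k : G} (D : D11 (TK e) P K NE X ε d k)
    {χ : IrrCharacter G} {n : ℕ} {s : ℤ} (hs : s = 1 ∨ s = -1) (hn : charDegree (χ : G → ℂ) = n)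
    (h1 : ¬ (11 : ℤ) ∣ n) (h2 : ¬ (11 : ℤ) ∣ ww (TK e) (χ : G → ℂ) + 1) (h3 : ¬ (11 : ℤ) ∣ n - 5)
    (h4 : ¬ (11 : ℤ) ∣ n + 5) (h5 : ¬ (11 : ℤ) ∣ -s * n - 1) : χ ∈ NE ∧ ε χ = s := by
  have C := Inst.ctx e
  have hd := dg_eq hn
  have hNE : χ ∈ NE := by
    rcases D.tri C χ with h | h | h | h
    · rw [hd] at h; exact absurd h h1
    · exact absurd h h2
    · exact h
    · exfalso
      have h6 := D.B.congX χ h
      rw [hd] at h6
      rcases D.B.sd with h7 | h7 <;> rw [h7] at h6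
      · apply h3
        have : (1 : ℤ) * (n : ℤ) - ((5 : ℕ) : ℤ) = n - 5 := by push_cast; ring
        rwa [this] at h6
      · apply h4
        have : (-1 : ℤ) * (n : ℤ) - ((5 : ℕ) : ℤ) = -(n + 5) := by push_cast; ring
        rw [this, dvd_neg] at h6
        exact h6
  refine ⟨hNE, ?_⟩
  have h6 := D.B.cong χ hNE
  rw [hd] at h6
  rcases D.B.sg χ hNE with h7 | h7 <;> rw [h7] at h6 ⊢ <;> rcases hs with rfl | rfl
  · rfl
  · exact absurd (by simpa using h6) h5
  · exact absurd (by simpa using h6) h5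
  · rfl

variable [IsSimpleGroup G]

/-- the character of degree `1360800` is invariant -/
theorem exists_inv (hna : ¬ IsMulCommutative G) (e : G ≃* Spor.Fi22) :
    ∃ χ : IrrCharacter G, charDegree (χ : G → ℂ) = 1360800 ∧ H954.LD.Inv χ := by
  classical
  have i11 : Fact (Nat.Prime 11) := ⟨by norm_num⟩
  obtain ⟨-, ⟨κ, d2, w2⟩⟩ := exists_pair e
  obtain ⟨P, K, NE, X, ε, d, k, D⟩ := exists_D11 e
  obtain ⟨⟨β, hβ, hβw, -⟩, κ', hκ', hκw⟩ := find11 hna e D d2 w2
  have C := Inst.ctx e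
  refine ⟨κ', hκ', ?_⟩
  intro b s
  by_cases hcon : H954.LD.tw b κ' = κ'
  · rw [← H954.LD.tw_apply, hcon]
  exfalso
  set κ₂ := H954.LD.tw b κ' with hκ₂
  have hd₂ : charDegree (κ₂ : G → ℂ) = 1360800 := (H954.LD.charDegree_tw b κ').trans hκ'
  have hw₂ : ww (TK e) (κ₂ : G → ℂ) = 78 := by rw [hκ₂, ww_tw]; exact hκw
  obtain ⟨m1, e1⟩ := mem_eps (n := 13650) (s := -1) D (by norm_num) d2 (by norm_num) (by
    rcases w2 with h | h <;> rw [h] <;> norm_num) (by norm_num) (by norm_num) (by norm_num)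
  obtain ⟨m2, e2⟩ := mem_eps (n := 1791153) (s := 1) D (by norm_num) hβ (by norm_num) (by
    intro h
    have h3 := dvd_sub h hβw
    have h4 : ww (TK e) (β : G → ℂ) + 1 - (ww (TK e) (β : G → ℂ) - 1) = 2 := by ring
    rw [h4] at h3
    revert h3; norm_num) (by norm_num) (by norm_num) (by norm_num)
  obtain ⟨m3, e3⟩ := mem_eps (n := 1360800) (s := 1) D (by norm_num) hκ' (by norm_num) (by
    rw [hκw]; norm_num) (by norm_num) (by norm_num) (by norm_num)
  obtain ⟨m4, e4⟩ := mem_eps (n := 1360800) (s := 1) D (by norm_num) hd₂ (by norm_num) (by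
    rw [hw₂]; norm_num) (by norm_num) (by norm_num) (by norm_num)
  have n01 : Blk.one G ≠ κ := ne_of_deg deg_one d2 (by norm_num)
  have n02 : Blk.one G ≠ β := ne_of_deg deg_one hβ (by norm_num)
  have n03 : Blk.one G ≠ κ' := ne_of_deg deg_one hκ' (by norm_num)
  have n04 : Blk.one G ≠ κ₂ := ne_of_deg deg_one hd₂ (by norm_num)
  have n12 : κ ≠ β := ne_of_deg d2 hβ (by norm_num)
  have n13 : κ ≠ κ' := ne_of_deg d2 hκ' (by norm_num)
  have n14 : κ ≠ κ₂ := ne_of_deg d2 hd₂ (by norm_num)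
  have n23 : β ≠ κ' := ne_of_deg hβ hκ' (by norm_num)
  have n24 : β ≠ κ₂ := ne_of_deg hβ hd₂ (by norm_num)
  have n34 : κ' ≠ κ₂ := fun h => hcon h.symm
  have hNE : NE = {Blk.one G, κ, β, κ', κ₂} := by
    symm
    apply Finset.eq_of_subset_of_card_le
    · intro χ h
      simp only [Finset.mem_insert, Finset.mem_singleton] at h
      rcases h with rfl | rfl | rfl | rfl | rfl
      · exact D.B.one
      · exact m1
      · exact m2
      · exact m3
      · exact m4
    · rw [D.B.cNE, Finset.card_insert_of_notMem (by simp [n01, n02, n03, n04]),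
        Finset.card_insert_of_notMem (by simp [n12, n13, n14]), Finset.card_insert_of_notMem (by simp [n23, n24]),
        Finset.card_pair n34]
  obtain ⟨Θ, hΘ⟩ : X.Nonempty := by rw [← Finset.card_pos, D.B.cX]; norm_num
  have h0 := moment0 D.B hΘ
  rw [hNE, Finset.sum_insert (by simp [n01, n02, n03, n04]), Finset.sum_insert (by simp [n12, n13, n14]),
    Finset.sum_insert (by simp [n23, n24]), Finset.sum_pair n34, D.B.eone, e1, e2, e3, e4, dg_one, dg_eq d2, dg_eq hβ,
    dg_eq hκ', dg_eq hd₂] at h0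
  have hdv := Blocks.Knorr.charDegree_dvd Θ.2
  have hcard : Nat.card G = 64561751654400 := by
    rw [Nat.card_congr e.toEquiv]
    exact Cfsg.Agent.S1696.result.2
  rw [hcard] at hdv
  have h5 : charDegree (Θ : G → ℂ) = 4499104 := by
    have h6 : (0 : ℤ) ≤ dg Θ := by unfold dg; positivity
    have h7 : dg Θ = 4499104 := by
      rcases D.B.sd with h7 | h7 <;> rw [h7] at h0 <;> push_cast at h0 <;> omega
    unfold dg at h7
    exact_mod_cast h7
  rw [h5] at hdv
  revert hdv
  norm_num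

end Cfsg.Agent.H559.S8.FiInv
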