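import Cfsg.Agent.H559.S8.FiNum
import Cfsg.Agent.H559.S8.FiInv
import Cfsg.Agent.H242.S8.Twin
import Cfsg.Agent.H495.Cod.Basic
import Cfsg.Agent.H704.S8.Defs

/-!
# S4908, Fi22: SOLV (helper559)

`solv` : no finite solvable group has the degree set of `Fi22` or of `Aut Fi22`.
-/

set_option autoImplicit false

open Cfsg

namespace Cfsg.Agent.H559.S8.FiSolv

open Cfsg.Agent.Characters.Core

universe u v

variable {X : Type v} [Group X]

theorem not_comm (h : Spor.IsoFi22 X) : ¬ IsMulCommutative X := by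
  intro hcom
  have hs := H372.S8.Fi22.simple_of h
  have hfin := H559.FiSpec.finite_of h
  have hcard := H559.FiSpec.card_eq h
  have h2 : (Nat.card X).Prime := by
    let _ : CommGroup X := { (inferInstance : Group X) with mul_comm := fun a b => hcom.is_comm.comm a b }
    exact IsSimpleGroup.prime_card
  rw [hcard] at h2
  norm_num at h2

theorem index_le (h : Spor.IsoFi22 X) : (MulAut.conj : X →* MulAut X).range.index ≤ 2 := by
  have h2 : Nat.card (Out X) ≤ 2 := by
    apply H489.card_out_sporadic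
    unfold IsSporadicGroup
    tauto
  exact h2

theorem mem_A (h : Spor.IsoFi22 X) {d : ℕ} (hd : d ∈ charDegrees X) : d ∈ FiNum.A := by
  have hfin := H559.FiSpec.finite_of h
  have hcard := H559.FiSpec.card_eq h
  have h1 := H372.S8.Fi22.adm_of h hd
  obtain ⟨χ, rfl⟩ := hd
  refine FiNum.mem_A h1 (hcard ▸ Blocks.Knorr.charDegree_dvd χ.2) ?_
  by_cases h2 : (χ : X → ℂ) = 1
  · have h3 : charDegree (χ : X → ℂ) = 1 := by
      have h4 := Blocks.Knorr.charDegree_eq χ.2
      rw [congrFun h2 1, Pi.one_apply] at h4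
      exact_mod_cast h4.symm
    rw [h3]
    norm_num
  · have h3 := H495.Cod.sq_lt χ h2
    rw [hcard, sq] at h3
    omega

/-- **SOLV for `Fi22`** -/
theorem solv (h : Spor.IsoFi22 X) {D : Set ℕ} (hD : H704.S8.Deg 2 X D) : H704.S8.Solv.{u} D := by
  have hs : IsSimpleGroup X := H372.S8.Fi22.simple_of h
  have hfin : Finite X := H559.FiSpec.finite_of h
  have hna := not_comm h
  obtain ⟨h1, h2⟩ := H242.S8.deg_two' (X := X) hs hna (index_le h) hD
  refine @H497.S8.solv_of_chk2.{u} D 15925248 [2, 3, 5, 7, 11, 13] FiNum.U FiNum.K (by norm_num) ?_ ?_ FiNum.chk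
  · intro d hd
    rw [FiNum.U, List.mem_append, List.mem_map]
    rcases h2 d hd with h3 | ⟨n, hn, hn1, rfl⟩
    · exact Or.inl (mem_A h h3)
    · refine Or.inr ⟨n, ?_, rfl⟩
      have h4 := mem_A h hn
      have h5 : FiNum.A = 1 :: FiNum.A.tail := by rw [FiNum.A, List.tail_cons]
      rw [h5, List.mem_cons] at h4
      exact h4.resolve_left hn1
  · obtain ⟨e⟩ := h
    have i11 : Fact (Nat.Prime 11) := ⟨by norm_num⟩
    have i13 : Fact (Nat.Prime 13) := ⟨by norm_num⟩
    obtain ⟨⟨χ₁, d1, w1⟩, ⟨χ₂, d2, w2⟩⟩ := H618.LD.exists_pair e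
    obtain ⟨P, K, NE, X₁, ε, d, k, D₁⟩ := H618.LD.Prin.exists_D11 e
    obtain ⟨P', K', NE', X₂, ε', d', D₂⟩ := H618.LD.Prin.exists_D13 e
    obtain ⟨⟨β, hβ, -⟩, κ', hκ', hκw⟩ := H618.LD.Find.find11 hna e D₁ d2 w2
    obtain ⟨α, hα, -⟩ := H618.LD.Find.find13 hna e D₁ D₂ d1 w1 hκ' hκw
    obtain ⟨χ, hχ, hinv⟩ := FiInv.exists_inv hna e
    intro l hl
    rw [FiNum.K, List.mem_cons, List.mem_cons, List.mem_singleton] at hl
    rcases hl with rfl | rfl | rfl
    · refine ⟨1360800, List.mem_singleton.2 rfl, ?_⟩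
      rcases hD with rfl | ⟨-, rfl⟩
      · exact ⟨χ, hχ⟩
      · have ho : Nat.card (Out X) ≤ 2 := index_le (X := X) ⟨e⟩
        obtain ⟨ψ, hψ⟩ := H954.LD.ext_of_inv hna ho hinv
        refine ⟨ψ, ?_⟩
        have h6 := hψ 1
        rw [map_one] at h6
        show charDegree (ψ : MulAut X → ℂ) = 1360800
        rw [← hχ]
        unfold charDegree
        rw [h6]
    · rcases h1 1441792 ⟨α, hα⟩ with h3 | h3
      · exact ⟨1441792, by simp, h3⟩
      · exact ⟨2883584, by simp, h3⟩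
    · rcases h1 1791153 ⟨β, hβ⟩ with h3 | h3
      · exact ⟨1791153, by simp, h3⟩
      · exact ⟨3582306, by simp, h3⟩

end Cfsg.Agent.H559.S8.FiSolv
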