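import Cfsg.Agent.SmallSimple.TheoremCCor

/-!
# S4908: residues of the degrees modulo a prime `p` with a Sylow subgroup of order `p` (helper559)

`residue` : all irreducible characters of the complement `K` of `P` in `C(P)` are stable under `N(P)`; then every degree is
`0`, `± θ(1)` or `± e θ(1)` modulo `p`, `θ ∈ Irr K`, `e = |N(P) : C(P)|`.
-/

set_option autoImplicit false

open Cfsg
open scoped ComplexConjugate

namespace Cfsg.Agent.H559.S8.Res

open Subgroup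
open Cfsg.Agent.Characters.Core
open Cfsg.Agent.SmallSimple.PrimeDual Cfsg.Agent.SmallSimple.ThetaSetup
open Cfsg.Agent.SmallSimple.ThetaOrtho Cfsg.Agent.SmallSimple.ThetaGroup
open Cfsg.Agent.SmallSimple.TheoremC Cfsg.Agent.SmallSimple.TheoremCCor

universe u

variable {G : Type u} [Group G] [Finite G] {p : ℕ} [hpF : Fact p.Prime] {P : Sylow p G} {K : Subgroup G}

theorem sum_parts {χ : IrrCharacter G} {c : IrrCharacter K → ℤ}
    (h : ∀ θ : IrrCharacter K, ∃ k : ℤ, part (θ : K → ℂ) (χ : G → ℂ) 1 = c θ + p * k)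
    {θ₀ : IrrCharacter K} {m : ℕ} (hm : (θ₀ : K → ℂ) 1 = m) (hc : ∀ θ, θ ≠ θ₀ → c θ = 0) :
    ∃ k : ℤ, (χ : G → ℂ) 1 = ((c θ₀ * m + p * k : ℤ) : ℂ) := by
  classical
  have : Finite (IrrCharacter K) := finite_irr
  have := Fintype.ofFinite (IrrCharacter K)
  choose k hk using h
  choose n hn hn' using fun θ' : IrrCharacter K => isIrr_apply_one θ'.2
  refine ⟨∑ θ : IrrCharacter K, k θ * n θ, ?_⟩
  rw [degree_eq_sum (K := K) (isIrr_isClassFunction χ.2)]
  have h1 : ∀ θ : IrrCharacter K, part (θ : K → ℂ) (χ : G → ℂ) 1 * (θ : K → ℂ) 1 =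
      ((c θ : ℂ) * (θ : K → ℂ) 1) + (p : ℂ) * ((k θ * n θ : ℤ) : ℂ) := by
    intro θ
    rw [hk, hn']
    push_cast
    ring
  rw [Finset.sum_congr rfl fun θ _ => h1 θ, Finset.sum_add_distrib, ← Finset.mul_sum, ← Int.cast_sum,
    Finset.sum_eq_single θ₀ (fun θ _ hθ => by rw [hc θ hθ]; simp) (fun h => absurd (Finset.mem_univ _) h), hm]
  push_cast
  ring

/-- **The residues.** -/
theorem residue (hK : IsComp p (P : Subgroup G) K) (hP : Nat.card P = p)
    (hst : ∀ θ : IrrCharacter K, ∀ n ∈ normalizer ((P : Subgroup G) : Set G), tw (θ : K → ℂ) n = θ) {e t : ℕ}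
    (he : (centralizer ((P : Subgroup G) : Set G)).relIndex (normalizer ((P : Subgroup G) : Set G)) = e)
    (ht : e * t = p - 1) (χ : IrrCharacter G) :
    p ∣ charDegree (χ : G → ℂ) ∨ ∃ θ : IrrCharacter K, ∃ m : ℕ, (θ : K → ℂ) 1 = m ∧ ∃ s : ℤ, (s = 1 ∨ s = -1) ∧
      ((p : ℤ) ∣ (charDegree (χ : G → ℂ) : ℤ) - s * m ∨ (p : ℤ) ∣ (charDegree (χ : G → ℂ) : ℤ) - s * (e * m)) := by
  classical
  have hdeg : (χ : G → ℂ) 1 = (charDegree (χ : G → ℂ) : ℂ) := Blocks.Basic.irr_one_eq_charDegree χ.2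
  have hχc := isIrr_isCharacter χ.2
  by_cases h : ∃ θ : IrrCharacter K, χ ∈ Over P (θ : K → ℂ)
  · obtain ⟨θ, hθ⟩ := h
    right
    obtain ⟨m, -, hm⟩ := isIrr_apply_one θ.2
    have hse := card_stabAct_of_stable hK hP θ.2 (hst θ)
    obtain ⟨NE, X, ε, d, S, h1, h2, h3, h4, h5, h6, h7, h8, -⟩ := theoremC hK hP θ.2 (hse.trans he) ht
    have horb := orb_of_stable (P := P) θ.2 (hst θ)
    have hout : ∀ θ' : IrrCharacter K, θ' ≠ θ → ∀ x : P, x ≠ 1 → part (θ' : K → ℂ) (χ : G → ℂ) x = 0 := by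
      intro θ' hne x hx
      refine part_eq_zero_of_not_mem_orb hK hP θ.2 hθ ?_ hx
      rw [horb, Finset.mem_singleton]
      exact hne
    have hc0 : ∀ θ' : IrrCharacter K, θ' ≠ θ → ∃ k : ℤ, part (θ' : K → ℂ) (χ : G → ℂ) 1 = ((0 : ℤ) : ℂ) + p * k := by
      intro θ' hne
      refine part_one_of_const hK hP hχc θ'.2 (fun x hx => ?_)
      rw [hout θ' hne x hx, Int.cast_zero]
    refine ⟨θ, m, hm, ?_⟩
    rcases (h1 χ).1 hθ with hχ | hχ
    · have h9 : ∀ θ' : IrrCharacter K, ∃ k : ℤ, part (θ' : K → ℂ) (χ : G → ℂ) 1 =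
          ((if θ' = θ then ε χ else 0 : ℤ) : ℂ) + p * k := by
        intro θ'
        by_cases hne : θ' = θ
        · rw [if_pos hne, hne]
          exact part_one_of_const hK hP hχc θ.2 (fun x hx => h7 χ hχ x hx)
        · rw [if_neg hne]
          exact hc0 θ' hne
      obtain ⟨k, hk⟩ := sum_parts h9 hm (fun θ' hne => if_neg hne)
      rw [if_pos rfl, hdeg] at hk
      refine ⟨ε χ, h5 χ hχ, Or.inl ⟨k, ?_⟩⟩
      have h10 : (charDegree (χ : G → ℂ) : ℤ) = ε χ * m + p * k := by exact_mod_cast hk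
      rw [h10]; ring
    · obtain ⟨hS, hS1, -, hS2⟩ := h8 χ hχ
      have h9 : ∀ θ' : IrrCharacter K, ∃ k : ℤ, part (θ' : K → ℂ) (χ : G → ℂ) 1 =
          ((if θ' = θ then d * e else 0 : ℤ) : ℂ) + p * k := by
        intro θ'
        by_cases hne : θ' = θ
        · rw [if_pos hne, hne]
          obtain ⟨k, hk⟩ := part_one_of_exc hK hP hχc θ.2 hS1 hS2
          refine ⟨k, ?_⟩
          rw [hk, hS]
          push_cast
          ring
        · rw [if_neg hne]
          exact hc0 θ' hne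
      obtain ⟨k, hk⟩ := sum_parts h9 hm (fun θ' hne => if_neg hne)
      rw [if_pos rfl, hdeg] at hk
      refine ⟨d, h6, Or.inr ⟨k, ?_⟩⟩
      have h10 : (charDegree (χ : G → ℂ) : ℤ) = d * e * m + p * k := by exact_mod_cast hk
      rw [h10]; ring
  · left
    push Not at h
    have h9 : ∀ θ' : IrrCharacter K, ∃ k : ℤ, part (θ' : K → ℂ) (χ : G → ℂ) 1 = ((0 : ℤ) : ℂ) + p * k := by
      intro θ'
      refine part_one_of_const hK hP hχc θ'.2 (fun x hx => ?_)
      rw [part_eq_zero (h θ') hx, Int.cast_zero]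
    obtain ⟨k, hk⟩ := sum_parts (θ₀ := ⟨1, isIrr_one⟩) (m := 1) h9 (by simp) (fun _ _ => rfl)
    rw [hdeg] at hk
    have h10 : (charDegree (χ : G → ℂ) : ℤ) = p * k := by
      have : (charDegree (χ : G → ℂ) : ℤ) = 0 * (1 : ℕ) + p * k := by exact_mod_cast hk
      simpa using this
    exact_mod_cast (Dvd.intro _ h10.symm : (p : ℤ) ∣ (charDegree (χ : G → ℂ) : ℤ))

end Cfsg.Agent.H559.S8.Res
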